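import Mathlib.AlgebraicGeometry.ValuativeCriterion
import Mathlib.AlgebraicGeometry.Morphisms.Preimmersion
import Mathlib.AlgebraicGeometry.Morphisms.UniversallyInjective
import Mathlib.Algebra.Category.Ring.Epi
import Mathlib.LinearAlgebra.Dual.Lemmas

/-!
# Valuative criterion for reflecting specializations along monomorphisms
-/

universe u

open CategoryTheory Limits AlgebraicGeometry IsLocalRing
open scoped TensorProduct

set_option backward.isDefEq.respectTransparency.types false

namespace Groth.Agent.MonoVal12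

/-- An epimorphism of fields is bijective. -/
theorem surjective_of_isEpi (K L : Type u) [Field K] [Field L] [Algebra K L] [Algebra.IsEpi K L] :
    Function.Surjective (algebraMap K L) := by
  intro s
  by_contra hs
  have hs' : s ∉ Submodule.span K ({1} : Set L) := by
    rw [Submodule.mem_span_singleton]
    rintro ⟨a, rfl⟩
    exact hs ⟨a, Algebra.algebraMap_eq_smul_one a⟩
  obtain ⟨ℓ, hℓ, hℓ'⟩ := Submodule.exists_dual_map_eq_bot_of_notMem hs' inferInstance
  have h1 : ℓ 1 = 0 := by
    have : ℓ 1 ∈ (Submodule.span K ({1} : Set L)).map ℓ :=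
      Submodule.mem_map_of_mem (Submodule.mem_span_singleton_self 1)
    rwa [hℓ', Submodule.mem_bot] at this
  let Φ : L ⊗[K] L →ₗ[K] L :=
    TensorProduct.lift (LinearMap.mk₂ K (fun x y => ℓ y • x)
      (fun x y z => smul_add _ _ _) (fun c x y => smul_comm _ _ _)
      (fun x y z => by simp only [map_add, add_smul]) (fun c x y => by simp only [map_smul, smul_eq_mul, mul_smul]))
  have key : (1 : L) ⊗ₜ[K] s = s ⊗ₜ[K] 1 := (Algebra.isEpi_iff_forall_one_tmul_eq K L).1 inferInstance s
  have := congrArg Φ key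
  simp only [Φ, TensorProduct.lift.tmul, LinearMap.mk₂_apply, h1, zero_smul, smul_eq_zero] at this
  exact this.elim hℓ one_ne_zero

variable {X Y : Scheme.{u}}

/-- A monomorphism induces isomorphisms of residue fields. -/
theorem isIso_residueFieldMap (f : Y ⟶ X) [Mono f] (y : Y) : IsIso (f.residueFieldMap y) := by
  haveI : Mono (Spec.map (f.residueFieldMap y) ≫ X.fromSpecResidueField (f y)) := by
    rw [Scheme.Hom.SpecMap_residueFieldMap_fromSpecResidueField]
    infer_instance
  haveI : Mono (Spec.map (f.residueFieldMap y)) := mono_of_mono _ (X.fromSpecResidueField (f y))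
  haveI hepi : Epi (f.residueFieldMap y) := ⟨fun g h e => Spec.map_injective
    ((cancel_mono (Spec.map (f.residueFieldMap y))).1 (by rw [← Spec.map_comp, ← Spec.map_comp, e]))⟩
  rw [ConcreteCategory.isIso_iff_bijective]
  letI := (f.residueFieldMap y).hom.toAlgebra
  haveI : Algebra.IsEpi (X.residueField (f y)) (Y.residueField y) :=
    CommRingCat.epi_iff_epi.1 hepi
  exact ⟨(f.residueFieldMap y).hom.injective, surjective_of_isEpi (X.residueField (f y)) (Y.residueField y)⟩

/-- A point of the source of a monomorphism gives field valued points. -/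
theorem exists_lift_residueField {Z W : Scheme.{u}} (q : Z ⟶ W) [Mono q] (z : Z) :
    ∃ s : Spec (W.residueField (q z)) ⟶ Z, s ≫ q = W.fromSpecResidueField (q z) ∧
      ∀ t, s t = z := by
  haveI := isIso_residueFieldMap q z
  refine ⟨Spec.map (inv (q.residueFieldMap z)) ≫ Z.fromSpecResidueField z, ?_, fun t => ?_⟩
  · rw [Category.assoc, ← Scheme.Hom.SpecMap_residueFieldMap_fromSpecResidueField,
      ← Spec.map_comp_assoc, IsIso.hom_inv_id, Spec.map_id, Category.id_comp]
  · rw [Scheme.Hom.comp_apply, Scheme.fromSpecResidueField_apply]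

/-- The core of the sufficiency. -/
theorem specializes_of_lift (f : Y ⟶ X) [Mono f] {X' : Scheme.{u}} (g : X' ⟶ X)
    (y₀ y₁ : ↥(pullback f g)) (A : ValuationSubring (X'.residueField (pullback.snd f g y₁)))
    (h : Spec (CommRingCat.of A) ⟶ X') (hclosed : h (closedPoint A) = pullback.snd f g y₀)
    (hgen : Spec.map (CommRingCat.ofHom A.subtype) ≫ h = X'.fromSpecResidueField (pullback.snd f g y₁))
    (H : ∀ (i₁ : Spec (CommRingCat.of (X'.residueField (pullback.snd f g y₁))) ⟶ Y)
      (i₂ : Spec (CommRingCat.of A) ⟶ X)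
      (w : i₁ ≫ f = Spec.map (CommRingCat.ofHom (algebraMap A (X'.residueField (pullback.snd f g y₁)))) ≫ i₂),
      (∃ l₀ : Spec (CommRingCat.of (IsLocalRing.ResidueField A)) ⟶ Y,
        l₀ ≫ f = Spec.map (CommRingCat.ofHom (IsLocalRing.residue A)) ≫ i₂) →
      (CommSq.mk w).HasLift) :
    y₁ ⤳ y₀ := by
  let q := pullback.snd f g
  obtain ⟨s₁, hs₁, hs₁'⟩ := exists_lift_residueField q y₁
  obtain ⟨s₀, hs₀, hs₀'⟩ := exists_lift_residueField q y₀
  have w : (s₁ ≫ pullback.fst f g) ≫ f =
      Spec.map (CommRingCat.ofHom (algebraMap A (X'.residueField (q y₁)))) ≫ h ≫ g := by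
    rw [Category.assoc, pullback.condition, ← Category.assoc, hs₁, ← Category.assoc]
    exact congrArg (· ≫ g) hgen.symm
  let e : Spec (CommRingCat.of (IsLocalRing.ResidueField A)) ⟶ X' :=
    Spec.map (CommRingCat.ofHom (IsLocalRing.residue A)) ≫ h
  have he : ∀ t, e t = q y₀ := fun t => by
    rw [Scheme.Hom.comp_apply, show Spec.map (CommRingCat.ofHom (IsLocalRing.residue A)) t = closedPoint A from
      PrimeSpectrum.ext (by
        show Ideal.comap (IsLocalRing.residue A) t.asIdeal = maximalIdeal A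
        rw [Ideal.eq_bot_of_prime t.asIdeal, ← RingHom.ker_eq_comap_bot, IsLocalRing.ker_residue]), hclosed]
  obtain ⟨e', he'⟩ : ∃ e' : Spec (CommRingCat.of (IsLocalRing.ResidueField A)) ⟶ Spec (X'.residueField (q y₀)),
      e' ≫ X'.fromSpecResidueField (q y₀) = e := by
    let p := (Scheme.SpecToEquivOfField (IsLocalRing.ResidueField A) X') e
    have hp : p.1 = q y₀ := he (closedPoint _)
    refine ⟨Spec.map (eqToHom (congrArg X'.residueField hp).symm ≫ p.2), ?_⟩
    have h1 : Spec.map p.2 ≫ X'.fromSpecResidueField p.1 = e :=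
      (Scheme.SpecToEquivOfField (IsLocalRing.ResidueField A) X').symm_apply_apply e
    rw [← h1]
    have key : ∀ (z : X') (hz : z = q y₀) (p2 : X'.residueField z ⟶ CommRingCat.of (IsLocalRing.ResidueField A)),
        Spec.map (eqToHom (congrArg X'.residueField hz).symm ≫ p2) ≫ X'.fromSpecResidueField (q y₀) =
          Spec.map p2 ≫ X'.fromSpecResidueField z := by
      rintro z rfl p2
      simp
    exact key _ hp p.2
  obtain ⟨l, hl₁, hl₂⟩ := (H (s₁ ≫ pullback.fst f g) (h ≫ g) w ⟨e' ≫ s₀ ≫ pullback.fst f g, by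
    simp only [Category.assoc]
    rw [pullback.condition, reassoc_of% hs₀, reassoc_of% he']
    exact Category.assoc _ _ _⟩).exists_lift
  let L : Spec (CommRingCat.of A) ⟶ pullback f g := pullback.lift l h hl₂
  have hL : L ≫ q = h := pullback.lift_snd ..
  have hinj : Function.Injective q := Scheme.Hom.injective q
  have hk : Spec.map (CommRingCat.ofHom A.subtype) (closedPoint (X'.residueField (q y₁))) ⤳ closedPoint A :=
    IsLocalRing.specializes_closedPoint _
  have h1 : L (closedPoint A) = y₀ := hinj (by rw [← Scheme.Hom.comp_apply, hL, hclosed])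
  have h2 : L (Spec.map (CommRingCat.ofHom A.subtype) (closedPoint (X'.residueField (q y₁)))) = y₁ :=
    hinj (by rw [← Scheme.Hom.comp_apply, hL, ← Scheme.Hom.comp_apply, hgen,
      Scheme.fromSpecResidueField_apply])
  have h3 := hk.map L.continuous
  rw [h1, h2] at h3
  exact h3

/-- Valuation rings realise specializations. -/
theorem exists_valuationSubring {X' : Scheme.{u}} {a b : X'} (h : a ⤳ b) :
    ∃ (A : ValuationSubring (X'.residueField a)) (c : Spec (CommRingCat.of A) ⟶ X'),
      c (closedPoint A) = b ∧ Spec.map (CommRingCat.ofHom A.subtype) ≫ c = X'.fromSpecResidueField a := by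
  let φ : X'.presheaf.stalk b ⟶ X'.residueField a := X'.presheaf.stalkSpecializes h ≫ X'.residue a
  obtain ⟨A, hA, hloc⟩ := exists_factor_valuationRing φ.hom
  let ψ : X'.presheaf.stalk b ⟶ .of A := CommRingCat.ofHom (φ.hom.codRestrict _ hA)
  refine ⟨A, Spec.map ψ ≫ X'.fromSpecStalk b, ?_, ?_⟩
  · rw [Scheme.Hom.comp_apply, show Spec.map ψ (closedPoint A) = closedPoint (X'.presheaf.stalk b) from
      comap_closedPoint (S := A) (φ.hom.codRestrict A.toSubring hA), Scheme.fromSpecStalk_closedPoint]
  · rw [Scheme.fromSpecResidueField, ← Scheme.SpecMap_stalkSpecializes_fromSpecStalk h,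
      ← Spec.map_comp_assoc, ← Spec.map_comp_assoc]
    rfl

set_option backward.isDefEq.respectTransparency false in
/-- Universally reflecting specializations gives lifts. -/
theorem hasLift_of_reflects (f : Y ⟶ X)
    (H : ∀ (X' : Scheme.{u}) (g : X' ⟶ X) (y₀ y₁ : ↥(pullback f g)),
        pullback.snd f g y₁ ⤳ pullback.snd f g y₀ → y₁ ⤳ y₀)
    (S : ValuativeCommSq f) (hl : ∃ l₀ : Spec (CommRingCat.of (IsLocalRing.ResidueField S.R)) ⟶ Y,
      l₀ ≫ f = Spec.map (CommRingCat.ofHom (IsLocalRing.residue S.R)) ≫ S.i₂) :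
    S.commSq.HasLift := by
  obtain ⟨R, K, i₁, i₂, ⟨w⟩⟩ := S
  obtain ⟨l₀, hl₀⟩ := hl
  have : IsDomain (CommRingCat.of R) := ‹_›
  have : ValuationRing (CommRingCat.of R) := ‹_›
  let : Field (CommRingCat.of K) := ‹_›
  let lft := pullback.lift i₁ (Spec.map (CommRingCat.ofHom (algebraMap R K))) w
  let lft₀ := pullback.lift l₀ (Spec.map (CommRingCat.ofHom (IsLocalRing.residue R))) hl₀
  let x := lft₀ (closedPoint (IsLocalRing.ResidueField R))
  have h₂ : pullback.snd f i₂ x = closedPoint R := by
    rw [← Scheme.Hom.comp_apply, pullback.lift_snd]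
    exact IsLocalRing.comap_closedPoint (S := IsLocalRing.ResidueField R) (IsLocalRing.residue R)
  have h₁ : lft (closedPoint K) ⤳ x := H _ i₂ x _ (by
    rw [h₂]; exact specializes_closedPoint _)
  let e : CommRingCat.of R ≅ (Spec <| .of R).presheaf.stalk (pullback.snd f i₂ x) :=
    (stalkClosedPointIso (.of R)).symm ≪≫
      (Spec <| .of R).presheaf.stalkCongr (.of_eq h₂.symm)
  let α := e.hom ≫ (pullback.snd f i₂).stalkMap x
  have : IsLocalHom e.hom.hom := isLocalHom_of_isIso e.hom
  have : IsLocalHom α.hom := inferInstanceAs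
    (IsLocalHom (((pullback.snd f i₂).stalkMap x).hom.comp e.hom.hom))
  let β := (pullback f i₂).presheaf.stalkSpecializes h₁ ≫ Scheme.stalkClosedPointTo lft
  have hαβ : α ≫ β = CommRingCat.ofHom (algebraMap R K) := by
    simp only [CommRingCat.coe_of, Iso.trans_hom, Iso.symm_hom, TopCat.Presheaf.stalkCongr_hom,
      Category.assoc, α, e, β, stalkClosedPointIso_inv, StructureSheaf.toStalk]
    change (Scheme.ΓSpecIso (.of R)).inv ≫ (Spec <| .of R).presheaf.germ _ _ _ ≫ _ = _
    simp only [TopCat.Presheaf.germ_stalkSpecializes_assoc, Scheme.Hom.germ_stalkMap_assoc]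
    simp only [TopologicalSpace.Opens.map_top]
    rw [Scheme.germ_stalkClosedPointTo lft ⊤ trivial]
    erw [← Scheme.Hom.comp_app_assoc lft (pullback.snd f i₂)]
    rw [pullback.lift_snd]
    simp
  have hbij := (bijective_rangeRestrict_comp_of_valuationRing (R := R) (K := K) α.hom β.hom
    (CommRingCat.hom_ext_iff.mp hαβ))
  let φ : (pullback f i₂).presheaf.stalk x ⟶ CommRingCat.of R := CommRingCat.ofHom <|
    (RingEquiv.ofBijective _ hbij).symm.toRingHom.comp β.hom.rangeRestrict
  have hαφ : α ≫ φ = 𝟙 _ := by ext x; exact (RingEquiv.ofBijective _ hbij).symm_apply_apply x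
  have hαφ' : (pullback.snd f i₂).stalkMap x ≫ φ = e.inv := by
    rw [← cancel_epi e.hom, ← Category.assoc, hαφ, e.hom_inv_id]
  have hφβ : φ ≫ CommRingCat.ofHom (algebraMap R K) = β :=
    hαβ ▸ CommRingCat.hom_ext (RingHom.ext fun x ↦ congr_arg Subtype.val
      ((RingEquiv.ofBijective _ hbij).apply_symm_apply (β.hom.rangeRestrict x)))
  refine ⟨⟨⟨Spec.map ((pullback.fst f i₂).stalkMap x ≫ φ) ≫ Y.fromSpecStalk _, ?_, ?_⟩⟩⟩
  · simp only [← Spec.map_comp_assoc, Category.assoc, hφβ]
    simp only [Spec.map_comp, Category.assoc, Scheme.SpecMap_stalkMap_fromSpecStalk,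
      Scheme.SpecMap_stalkSpecializes_fromSpecStalk_assoc, β]
    rw [Scheme.Spec_stalkClosedPointTo_fromSpecStalk_assoc]
    simp [lft]
  · simp only [Spec.map_comp, Category.assoc, Scheme.SpecMap_stalkMap_fromSpecStalk,
      pullback.condition]
    rw [← Scheme.SpecMap_stalkMap_fromSpecStalk_assoc, ← Spec.map_comp_assoc, hαφ']
    simp only [Iso.trans_inv, TopCat.Presheaf.stalkCongr_inv, Iso.symm_inv, Spec.map_comp,
      Category.assoc, Scheme.SpecMap_stalkSpecializes_fromSpecStalk_assoc, e]
    rw [← Spec_stalkClosedPointIso, ← Spec.map_comp_assoc,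
      Iso.inv_hom_id, Spec.map_id, Category.id_comp]

end Groth.Agent.MonoVal12
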